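import Mathlib
import Cfsg.Agent.H627.BR.Over
import Cfsg.Agent.H700.PRatExt
import Cfsg.Agent.S4583
import Cfsg.Agent.S0854
import Cfsg.Agent.H627.BR.Grp
import Cfsg.Agent.H633.Principal
import Cfsg.Agent.Lib.SubnormalJoin
import Cfsg.Agent.S4892
import Cfsg.Agent.S0964
import Cfsg.Agent.Characters.GaloisIrr
import Cfsg.Agent.Characters.Linear
import Cfsg.Agent.Blocks.PrincipalKernel
import Cfsg.Agent.FastGrp
import Cfsg.Agent.Prune
set_option linter.all false

section
prune_inst 0x7f00000000000000000000000000000000000000000000000000000000000000000000000000000000000000000000000000000000000000000000000000000000000000000000000000000000000000003fffffffffffffffffffffffffffbeffbdfbfeffff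

-- part: H627/BR/Fix
section
set_option linter.all false
open scoped Cfsg.Agent.FastGrp

/-!
# S4891, step (R0)

A `p`-regular element which centralizes a Sylow `p`-subgroup of the normal subgroup `N` fixes the characters of `N` of
degree prime to `p` in the principal block.
-/

set_option autoImplicit false

open Subgroup

namespace Cfsg.Agent.H627.BR

open Cfsg Cfsg.Agent.H145.BR Cfsg.Agent.Blocks.Local Cfsg.Agent.Blocks.Basic Cfsg.Agent.H700.PrinCrit
  Cfsg.Agent.H700.PrinExt Cfsg.Agent.H700.PRatExt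

universe u

variable {p : ℕ} [hp : Fact p.Prime]

/-- the inertia group -/
def Inr {G : Type u} [Group G] (N : Subgroup G) [N.Normal] (θ : N → ℂ) : Subgroup G where
  carrier := {g | ∀ n : N, θ (MulAut.conjNormal g n) = θ n}
  one_mem' := fun n => by simp
  mul_mem' := by
    intro a b ha hb n
    rw [map_mul, MulAut.mul_apply, ha, hb]
  inv_mem' := by
    intro a ha n
    have h := ha (MulAut.conjNormal a⁻¹ n)
    rw [← MulAut.mul_apply, ← map_mul, mul_inv_cancel, map_one, MulAut.one_apply] at h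
    exact h.symm

theorem le_inr {G : Type u} [Group G] {N : Subgroup G} [N.Normal] (θ : IrrCharacter N) : N ≤ Inr N (θ : N → ℂ) := by
  intro g hg n
  exact irr_conj θ.2 n ⟨g, hg⟩

theorem conj_fixed_aux {M : Ideal AlgInt} (hM : IsPModular p M) {G : Type u} [Group G] [Finite G]
    (N : Subgroup G) [hN : N.Normal] (P : Sylow p G) (hPN : (P : Subgroup G) ≤ N) (θ : IrrCharacter N)
    (hθ : θ ∈ principalBlock M N) (hd : ¬ p ∣ charDegree (θ : N → ℂ)) (x : G)
    (hx : x ∈ centralizer ((P : Subgroup G) : Set G)) (hgen : N ⊔ zpowers x = ⊤) : x ∈ Inr N (θ : N → ℂ) := by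
  classical
  have := Fintype.ofFinite G
  have := Fintype.ofFinite N
  have hMp : M.IsPrime := isPrime_of_isPModular hM
  have heq : N ⊔ (P : Subgroup G) = N := sup_eq_left.2 hPN
  obtain ⟨χ, h1, h2, h3⟩ := S4583.result N p M hM P θ hθ hd
    ⟨mapIrr (MulEquiv.subgroupCongr heq) θ, fun n => by rw [mapIrr_apply]; rfl⟩
  have h3' : classInner (fun n : N => (χ : G → ℂ) n) (θ : N → ℂ) ≠ 0 := (ov_iff N _ _).1 h3
  have h4 := (mem_principalBlock_iff hM P.2 P.not_dvd_index χ h2).1 h1 x hx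
  have h5 : (χ : G → ℂ) x ≠ 0 := by
    intro h0
    rw [h0, zero_sub, irr_one_eq_charDegree χ.2] at h4
    have h6 := memLocalIdeal_neg h4
    rw [neg_neg, memLocalIdeal_natCast_iff hM] at h6
    exact h2 h6
  have := Fintype.ofFinite (Inr N (θ : N → ℂ))
  obtain ⟨ψ, hψ, hind, -⟩ := S0854.result N (θ : N → ℂ) θ.2 (Inr N (θ : N → ℂ)) (fun g => Iff.rfl) (le_inr θ)
    (χ : G → ℂ) χ.2 h3'
  rw [← hind] at h5
  unfold indFun at h5
  have h6 : ∃ y : G, extendByZero (Inr N (θ : N → ℂ)) ψ (y⁻¹ * x * y) ≠ 0 := by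
    by_contra hcon
    push Not at hcon
    apply h5
    rw [Finset.sum_eq_zero fun y _ => hcon y, mul_zero]
  obtain ⟨y, hy⟩ := h6
  have h7 : y⁻¹ * x * y ∈ Inr N (θ : N → ℂ) := by
    by_contra hcon
    apply hy
    unfold extendByZero
    rw [Function.extend_apply']
    · rfl
    · rintro ⟨a, ha⟩
      exact hcon (ha ▸ a.2)
  -- `y⁻¹ x y x⁻¹ ∈ N`
  have h8 : y⁻¹ * x * y * x⁻¹ ∈ N := by
    obtain ⟨n, hn, z, hz, rfl⟩ := Subgroup.mem_sup_of_normal_left.1 (show y ∈ N ⊔ zpowers x from hgen ▸ mem_top y)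
    obtain ⟨k, rfl⟩ := mem_zpowers_iff.1 hz
    have e : (n * x ^ k)⁻¹ * x * (n * x ^ k) * x⁻¹ = (x ^ k)⁻¹ * (n⁻¹ * (x * n * x⁻¹)) * (x ^ k)⁻¹⁻¹ := by
      have hc : x ^ k * x⁻¹ = x⁻¹ * x ^ k := by
        rw [← zpow_neg_one, ← zpow_add, ← zpow_add, add_comm]
      calc (n * x ^ k)⁻¹ * x * (n * x ^ k) * x⁻¹ = (x ^ k)⁻¹ * n⁻¹ * x * n * (x ^ k * x⁻¹) := by group
        _ = _ := by rw [hc]; group
    rw [e]
    exact hN.conj_mem _ (N.mul_mem (N.inv_mem hn) (hN.conj_mem n hn x)) _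
  have h9 : y⁻¹ * x * y = (y⁻¹ * x * y * x⁻¹) * x := by group
  rw [h9] at h7
  exact (Subgroup.mul_mem_cancel_left _ (le_inr θ h8)).1 h7

/-- (R0) a `p`-regular element which centralizes a Sylow `p`-subgroup `Q` of the normal subgroup `N` fixes the
characters of `N` of degree prime to `p` in the principal block -/
theorem conj_fixed {M : Ideal AlgInt} (hM : IsPModular p M) {G : Type u} [Group G] [Finite G]
    (N : Subgroup G) [hN : N.Normal] (Q : Subgroup G) (hQ : IsPGroup p Q) (hQN : Q ≤ N) (hQi : ¬ p ∣ Q.relIndex N)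
    (θ : IrrCharacter N) (hθ : θ ∈ principalBlock M N) (hd : ¬ p ∣ charDegree (θ : N → ℂ)) (x : G)
    (hx : x ∈ centralizer (Q : Set G)) (hreg : ¬ p ∣ orderOf x) :
    ∀ n : N, (θ : N → ℂ) (MulAut.conjNormal x n) = (θ : N → ℂ) n := by
  have hNR : N ≤ N ⊔ zpowers x := le_sup_left
  have hxR : x ∈ N ⊔ zpowers x := le_sup_right (α := Subgroup G) (mem_zpowers x)
  have hNRn : (N.subgroupOf (N ⊔ zpowers x)).Normal := hN.subgroupOf _
  have hi : ¬ p ∣ N.relIndex (N ⊔ zpowers x) := by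
    intro h
    have h1 : N.relIndex (N ⊔ zpowers x) = N.relIndex (zpowers x) := by
      rw [sup_comm]; exact Subgroup.relIndex_sup_right (zpowers x) N
    rw [h1] at h
    apply hreg
    rw [← Nat.card_zpowers]
    exact h.trans (Subgroup.relIndex_dvd_card _ _)
  have hQR : Q.relIndex N * N.relIndex (N ⊔ zpowers x) = Q.relIndex (N ⊔ zpowers x) :=
    Subgroup.relIndex_mul_relIndex _ _ _ hQN hNR
  have hQp : IsPGroup p (Q.subgroupOf (N ⊔ zpowers x)) := hQ.comap_subtype
  have hQi' : ¬ p ∣ (Q.subgroupOf (N ⊔ zpowers x)).index := by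
    intro h
    have h2 : p ∣ Q.relIndex (N ⊔ zpowers x) := h
    rw [← hQR, hp.out.dvd_mul] at h2
    exact h2.elim hQi hi
  have key := conj_fixed_aux hM (G := ↥(N ⊔ zpowers x)) (N.subgroupOf (N ⊔ zpowers x)) (hQp.toSylow hQi')
    (Subgroup.comap_mono hQN) (up N θ hNR) (mapIrr_mem _ hθ) (by rw [up_degree]; exact hd) ⟨x, hxR⟩ ?_ ?_
  · intro n
    have h1 := key ⟨⟨n, hNR n.2⟩, n.2⟩
    rw [up_apply, up_apply] at h1
    exact h1
  · rw [Subgroup.mem_centralizer_iff]
    intro y hy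
    apply Subtype.ext
    exact Subgroup.mem_centralizer_iff.1 hx (y : G) hy
  · rw [eq_top_iff]
    rintro ⟨y, hy⟩ -
    obtain ⟨n, hn, z, hz, rfl⟩ := Subgroup.mem_sup_of_normal_left.1 hy
    obtain ⟨k, rfl⟩ := mem_zpowers_iff.1 hz
    have e : (⟨n * x ^ k, hy⟩ : ↥(N ⊔ zpowers x)) = ⟨n, hNR hn⟩ * ⟨x, hxR⟩ ^ k := by
      apply Subtype.ext
      rw [Subgroup.coe_mul, Subgroup.coe_zpow]
    rw [e]
    exact Subgroup.mul_mem _ (le_sup_left (α := Subgroup _) (show (⟨n, hNR hn⟩ : ↥(N ⊔ zpowers x)) ∈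
      N.subgroupOf (N ⊔ zpowers x) from hn)) (le_sup_right (α := Subgroup _) (zpow_mem (mem_zpowers _) k))

end Cfsg.Agent.H627.BR
end

-- part: H627/BR/Main
section
set_option linter.all false
open scoped Cfsg.Agent.FastGrp

/-!
# S4891, step (R5): the direction `⇐`, from Lemma L, Theorem N and the existence of a witness
-/

set_option autoImplicit false

open Subgroup
open scoped Pointwise

namespace Cfsg.Agent.H627.BR

open Cfsg Cfsg.Agent.H145.BR Cfsg.Agent.Blocks.Local Cfsg.Agent.Blocks.Basic Cfsg.Agent.H700.PrinCrit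
  Cfsg.Agent.H700.PrinExt Cfsg.Agent.H700.PRatExt Cfsg.Agent.H633.Principal

universe u

/-- Lemma L (statement) -/
def LemL (p : ℕ) [Fact p.Prime] : Prop :=
  ∀ {G : Type u} [Group G] [Finite G] (P : Sylow p G) (N : Subgroup G) [N.Normal], SN (P : Subgroup G) N →
    ∀ ψ : IrrCharacter N, ¬ p ∣ charDegree (ψ : N → ℂ) → PRat p (ψ : N → ℂ) →
      (∀ g ∈ (P : Subgroup G), ∀ x : N, (ψ : N → ℂ) (MulAut.conjNormal g x) = (ψ : N → ℂ) x) →
      ∃ χ : IrrCharacter G, ¬ p ∣ charDegree (χ : G → ℂ) ∧ PRat p (χ : G → ℂ) ∧ Ov N (χ : G → ℂ) ψ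

/-- Theorem N (statement) -/
def ThmN (p : ℕ) [Fact p.Prime] : Prop :=
  ∀ {G : Type u} [Group G] [Finite G] (P : Sylow p G), (∀ χ : IrrCharacter G, ¬ p ∣ charDegree (χ : G → ℂ) →
    PRat p (χ : G → ℂ) → (χ : G → ℂ) = fun _ => (1 : ℂ)) → normalizer ((P : Subgroup G) : Set G) = (P : Subgroup G)

/-- the witness for a nonabelian minimal normal subgroup (statement) -/
def ExTh (p : ℕ) [Fact p.Prime] : Prop :=
  ∀ {M : Ideal AlgInt}, IsPModular p M → ∀ {G : Type u} [Group G] [Finite G]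
    (P : Sylow p G) (N : Subgroup G) [N.Normal], (∀ K : Subgroup G, K.Normal → K ≤ N → K = ⊥ ∨ K = N) →
    (¬ ∀ x ∈ N, ∀ y ∈ N, Commute x y) → p ∣ Nat.card N →
    (∃ θ : IrrCharacter N, Wit p M N θ ∧
      ∀ g ∈ (P : Subgroup G), ∀ x : N, (θ : N → ℂ) (MulAut.conjNormal g x) = (θ : N → ℂ) x) ∨
    (∀ g ∈ N, ¬ p ∣ orderOf g → (∀ x ∈ (P : Subgroup G), g * x * g⁻¹ ∈ (P : Subgroup G)) → g = 1)

/-- the hypothesis of the theorem -/
def XX (p : ℕ) (M : Ideal AlgInt) (G : Type u) [Group G] : Prop :=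
  ∀ χ : IrrCharacter G, χ ∈ principalBlock M G → ¬ p ∣ charDegree (χ : G → ℂ) → PRat p (χ : G → ℂ) →
    (χ : G → ℂ) = fun _ => (1 : ℂ)

variable {p : ℕ} [hp : Fact p.Prime] {M : Ideal AlgInt}

omit hp in
theorem pRat_comp {G H : Type*} {χ : G → ℂ} (f : H → G) (h : PRat p χ) : PRat p (χ ∘ f) := by
  obtain ⟨n, hn, h⟩ := h
  exact ⟨n, hn, fun g => h (f g)⟩

omit hp in
theorem infl_facts {G : Type u} [Group G] (K : Subgroup G) [K.Normal] {χ : IrrCharacter (G ⧸ K)}
    (hd : ¬ p ∣ charDegree (χ : G ⧸ K → ℂ)) (hr : PRat p (χ : G ⧸ K → ℂ)) :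
    ¬ p ∣ charDegree (infl K χ : G → ℂ) ∧ PRat p (infl K χ : G → ℂ) ∧
      ((infl K χ : G → ℂ) = (fun _ => (1 : ℂ)) → (χ : G ⧸ K → ℂ) = fun _ => (1 : ℂ)) := by
  refine ⟨?_, pRat_comp (QuotientGroup.mk : G → G ⧸ K) hr, ?_⟩
  · have h1 : (infl K χ : G → ℂ) 1 = (χ : G ⧸ K → ℂ) 1 := by rw [infl_apply, QuotientGroup.mk_one]
    rw [charDegree_def, h1, ← charDegree_def]
    exact hd
  · intro h
    funext y
    obtain ⟨x, rfl⟩ := QuotientGroup.mk_surjective y
    have := congrFun h x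
    rwa [infl_apply] at this

omit hp in
theorem XX.quot (hM : IsPModular p M) {G : Type u} [Group G] (h : XX p M G) (K : Subgroup G) [K.Normal] :
    XX p M (G ⧸ K) := by
  have hMp : M.IsPrime := isPrime_of_isPModular hM
  intro χ hχ hd hr
  obtain ⟨h1, h2, h3⟩ := infl_facts K hd hr
  exact h3 (h _ (inflate_mem K hχ) h1 h2)

/-- inflated characters lie over the trivial character -/
theorem ov_infl {G : Type u} [Group G] [Finite G] (K : Subgroup G) [K.Normal] (χ : IrrCharacter (G ⧸ K)) :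
    Ov K (infl K χ : G → ℂ) (oneIrr K : K → ℂ) := by
  have := Fintype.ofFinite K
  rw [ov_iff]
  have h1 : ∀ x : K, (infl K χ : G → ℂ) x = (χ : G ⧸ K → ℂ) 1 := by
    intro x
    rw [infl_apply, (QuotientGroup.eq_one_iff (x : G)).2 x.2]
  rw [classInner_def]
  show (Nat.card K : ℂ)⁻¹ * ∑ x : K, (infl K χ : G → ℂ) x * (starRingEnd ℂ) (1 : ℂ) ≠ 0
  rw [Finset.sum_congr rfl fun x _ => by rw [h1 x]]
  rw [Finset.sum_const, Finset.card_univ, nsmul_eq_mul, map_one, mul_one]
  refine mul_ne_zero (inv_ne_zero (by exact_mod_cast Nat.card_pos.ne')) (mul_ne_zero ?_ (irr_one_ne_zero χ.2))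
  exact_mod_cast Fintype.card_ne_zero

/-- Theorem N for the quotient by a normal subgroup containing `C_G(P)` -/
theorem sn_of_XX (hM : IsPModular p M) (hN : ThmN.{u} p) {G : Type u} [Group G] [Finite G] (P : Sylow p G)
    (h : XX p M G) (K : Subgroup G) [K.Normal] (hC : centralizer ((P : Subgroup G) : Set G) ≤ K) :
    SN (P : Subgroup G) K := by
  have hMp : M.IsPrime := isPrime_of_isPModular hM
  apply sn_of_quot
  have h1 := hN (P.mapSurjective (QuotientGroup.mk'_surjective K)) (by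
    intro χ hd hr
    obtain ⟨h1, h2, h3⟩ := infl_facts K hd hr
    exact h3 (h _ (mem_of_over hM P K hC (oneIrr K) one_mem_principal _ (ov_infl K χ) h1) h1 h2))
  exact h1

/-- the induction step for a quotient -/
theorem comm_quot (hM : IsPModular p M) {G : Type u} [Group G] [Finite G] (P : Sylow p G) (h : XX p M G)
    (K : Subgroup G) [K.Normal]
    (ih : ∀ (P : Sylow p (G ⧸ K)), XX p M (G ⧸ K) → ∀ g : G ⧸ K, ¬ p ∣ orderOf g →
      (∀ x ∈ (P : Subgroup (G ⧸ K)), g * x * g⁻¹ ∈ (P : Subgroup (G ⧸ K))) → ∀ x ∈ (P : Subgroup (G ⧸ K)), g * x = x * g)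
    {g : G} (hr : ¬ p ∣ orderOf g) (hgP : ∀ x ∈ (P : Subgroup G), g * x * g⁻¹ ∈ (P : Subgroup G)) :
    ∀ x ∈ (P : Subgroup G), g * x * g⁻¹ * x⁻¹ ∈ K := by
  intro x hx
  have h1 := ih (P.mapSurjective (QuotientGroup.mk'_surjective K)) (h.quot hM K) (g : G ⧸ K)
    (fun hdvd => hr (hdvd.trans (orderOf_map_dvd (QuotientGroup.mk' K) g))) (by
      rintro _ ⟨y, hy, rfl⟩
      exact ⟨g * y * g⁻¹, hgP y hy, by simp only [_root_.QuotientGroup.mk'_apply, _root_.QuotientGroup.mk_mul, _root_.QuotientGroup.mk_inv]⟩) (x : G ⧸ K) ⟨x, hx, rfl⟩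
  rw [← QuotientGroup.eq_one_iff]
  rw [QuotientGroup.mk_mul, QuotientGroup.mk_mul, QuotientGroup.mk_mul, h1, QuotientGroup.mk_inv, QuotientGroup.mk_inv]
  group

/-- `N C_G(Q)` is normal, `Q = P ∩ N` -/
theorem normal_sup_centralizer {G : Type u} [Group G] [Finite G] (P : Sylow p G) (N : Subgroup G) [hN : N.Normal] :
    (N ⊔ centralizer (((P : Subgroup G) ⊓ N : Subgroup G) : Set G)).Normal := by
  obtain ⟨Q, hQ⟩ := Transfer.FrobeniusFusion.exists_sylow_subgroupOf P N
  have hmap : (Q : Subgroup N).map N.subtype = (P : Subgroup G) ⊓ N := by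
    rw [hQ, Subgroup.subgroupOf_map_subtype]
  have hfr := _root_.Cfsg.Agent.H700.PRatExt.frattini N Q
  rw [hmap] at hfr
  constructor
  intro y hy g
  obtain ⟨n, hn, c, hc, rfl⟩ := Subgroup.mem_sup_of_normal_left.1 hy
  obtain ⟨m, hm, hmc⟩ := hfr g
  have h1 := hmc c hc
  have h2 : g * (n * c) * g⁻¹ = (g * n * g⁻¹) * (m * (m⁻¹ * (g * c * g⁻¹) * m) * m⁻¹) := by group
  rw [h2]
  have hle : N ≤ N ⊔ centralizer (((P : Subgroup G) ⊓ N : Subgroup G) : Set G) := le_sup_left
  have hle' : centralizer (((P : Subgroup G) ⊓ N : Subgroup G) : Set G) ≤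
    N ⊔ centralizer (((P : Subgroup G) ⊓ N : Subgroup G) : Set G) := le_sup_right
  exact mul_mem (hle (hN.conj_mem n hn g)) (mul_mem (mul_mem (hle hm) (hle' h1)) (inv_mem (hle hm)))

/-- a subgroup `J` containing a Sylow subgroup `P` of `L` and the `p`-regular elements of the normal subgroup `C` of `L`
contains `C` -/
theorem le_of_pregular {L : Type u} [Group L] [Finite L] (P : Sylow p L) (C : Subgroup L) [hC : C.Normal]
    (J : Subgroup L) (hPJ : (P : Subgroup L) ≤ J) (hJ : ∀ x ∈ C, ¬ p ∣ orderOf x → x ∈ J) : C ≤ J := by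
  set R : Subgroup L := _root_.Subgroup.closure {x | x ∈ C ∧ ¬ p ∣ orderOf x} with hR
  have hRn : R.Normal := by
    constructor
    intro n hn g
    induction hn using Subgroup.closure_induction with
    | mem x hx =>
      apply Subgroup.subset_closure
      refine ⟨hC.conj_mem x hx.1 g, ?_⟩
      have h1 : orderOf (g * x * g⁻¹) = orderOf x := (MulAut.conj g).orderOf_eq x
      rw [h1]
      exact hx.2
    | one => simp
    | mul x y _ _ hx hy =>
      have h1 : g * (x * y) * g⁻¹ = (g * x * g⁻¹) * (g * y * g⁻¹) := by group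
      rw [h1]
      exact R.mul_mem hx hy
    | inv x _ hx =>
      have h1 : g * x⁻¹ * g⁻¹ = (g * x * g⁻¹)⁻¹ := by group
      rw [h1]
      exact R.inv_mem hx
  have hRJ : R ≤ J := by
    rw [hR, closure_le]
    exact fun x hx => hJ x hx.1 hx.2
  -- `C R / R` is a `p`-group
  have hCp : IsPGroup p (C.map (QuotientGroup.mk' R)) := by
    rintro ⟨_, x, hx, rfl⟩
    have hx0 : orderOf x ≠ 0 := (orderOf_pos x).ne'
    refine ⟨(orderOf x).factorization p, ?_⟩
    apply Subtype.ext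
    show (QuotientGroup.mk' R x) ^ p ^ (orderOf x).factorization p = 1
    rw [← map_pow]
    refine (QuotientGroup.eq_one_iff _).2 (Subgroup.subset_closure ⟨C.pow_mem hx _, ?_⟩)
    rw [orderOf_pow_of_dvd (pow_ne_zero _ hp.out.ne_zero) (Nat.ordProj_dvd _ _)]
    exact Nat.not_dvd_ordCompl hp.out hx0
  have hCn : (C.map (QuotientGroup.mk' R)).Normal := hC.map _ (QuotientGroup.mk'_surjective R)
  let P' := P.mapSurjective (QuotientGroup.mk'_surjective R)
  have h1 : IsPGroup p ((P' : Subgroup (L ⧸ R)) ⊔ C.map (QuotientGroup.mk' R) : Subgroup (L ⧸ R)) :=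
    IsPGroup.to_sup_of_normal_right P'.isPGroup' hCp
  have h2 : C.map (QuotientGroup.mk' R) ≤ (P' : Subgroup (L ⧸ R)) :=
    le_sup_right.trans (le_of_eq (P'.is_maximal' h1 le_sup_left))
  intro x hx
  obtain ⟨y, hy, hyx⟩ := h2 ⟨x, hx, rfl⟩
  have h3 : y⁻¹ * x ∈ R := QuotientGroup.eq.1 hyx
  have h4 : x = y * (y⁻¹ * x) := by group
  rw [h4]
  exact J.mul_mem (hPJ hy) (hRJ h3)

/-- a `P`-invariant character of `N` of degree prime to `p` in the principal block is invariant in `N C_G(P ∩ N) P` -/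
theorem le_inr_of_inv (hM : IsPModular p M) {G : Type u} [Group G] [Finite G] (P : Sylow p G) (N : Subgroup G)
    [hN : N.Normal] (θ : IrrCharacter N) (hθ : θ ∈ principalBlock M N) (hd : ¬ p ∣ charDegree (θ : N → ℂ))
    (hP : (P : Subgroup G) ≤ Inr N (θ : N → ℂ)) :
    (N ⊔ centralizer (((P : Subgroup G) ⊓ N : Subgroup G) : Set G)) ⊔ (P : Subgroup G) ≤ Inr N (θ : N → ℂ) := by
  refine sup_le (sup_le (le_inr θ) ?_) hP
  set Q : Subgroup G := (P : Subgroup G) ⊓ N with hQ
  have hPL : (P : Subgroup G) ≤ normalizer (Q : Set G) := by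
    intro x hx
    apply Subgroup.mem_normalizer_fintype
    intro y hy
    exact ⟨(P : Subgroup G).mul_mem ((P : Subgroup G).mul_mem hx hy.1) ((P : Subgroup G).inv_mem hx),
      hN.conj_mem _ hy.2 x⟩
  have hCL : centralizer (Q : Set G) ≤ normalizer (Q : Set G) := centralizer_le_normalizer _
  have hK' : ((centralizer (Q : Set G)).subgroupOf (normalizer (Q : Set G))).Normal := by
    constructor
    intro b hb a
    rw [Subgroup.mem_subgroupOf, Subgroup.mem_centralizer_iff] at hb ⊢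
    intro y hy
    have h1 : (a : G)⁻¹ * y * a ∈ Q := (Subgroup.mem_normalizer_iff''.1 a.2 y).1 hy
    have h2 := hb _ h1
    simp only [Subgroup.coe_mul, Subgroup.coe_inv]
    calc y * (a * b * (a : G)⁻¹) = a * (((a : G)⁻¹ * y * a) * b) * (a : G)⁻¹ := by group
      _ = a * (b * ((a : G)⁻¹ * y * a)) * (a : G)⁻¹ := by rw [h2]
      _ = a * b * (a : G)⁻¹ * y := by group
  have key := le_of_pregular (p := p) (P.subtype hPL) ((centralizer (Q : Set G)).subgroupOf (normalizer (Q : Set G)))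
    ((Inr N (θ : N → ℂ)).subgroupOf (normalizer (Q : Set G))) (fun x hx => hP hx) (by
      intro x hx hr
      have hQi : ¬ p ∣ Q.relIndex N := by
        rw [hQ, Subgroup.inf_relIndex_right]
        exact Transfer.FrobeniusFusion.not_dvd_relIndex_of_normal P N
      exact conj_fixed hM N Q (P.isPGroup'.to_le inf_le_left) inf_le_right hQi θ hθ hd (x : G) hx
        (by rwa [Subgroup.orderOf_coe]))
  intro x hx
  exact (key (show (⟨x, hCL hx⟩ : ↥(normalizer (Q : Set G))) ∈ _ from hx) :)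

/-- no witness under the hypothesis of the theorem -/
theorem no_witness (hp2 : p ≠ 2) (hL : LemL.{u} p) (hN : ThmN.{u} p) (hM : IsPModular p M) {G : Type u} [Group G]
    [Finite G] (P : Sylow p G) (h : XX p M G) (N : Subgroup G) [hNn : N.Normal] (θ : IrrCharacter N)
    (hθ : Wit p M N θ) (hinv : ∀ g ∈ (P : Subgroup G), ∀ x : N, (θ : N → ℂ) (MulAut.conjNormal g x) = (θ : N → ℂ) x) :
    False := by
  classical
  have hMp : M.IsPrime := isPrime_of_isPModular hM
  obtain ⟨hθB, hθ1, hθd, hθr⟩ := hθ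
  set M0 : Subgroup G := N ⊔ centralizer (((P : Subgroup G) ⊓ N : Subgroup G) : Set G) with hM0
  have hM0n : M0.Normal := normal_sup_centralizer P N
  have hNM0 : N ≤ M0 := le_sup_left
  have hCM0 : centralizer (((P : Subgroup G) ⊓ N : Subgroup G) : Set G) ≤ M0 := le_sup_right
  have hCP : centralizer ((P : Subgroup G) : Set G) ≤ M0 :=
    (centralizer_le (show (((P : Subgroup G) ⊓ N : Subgroup G) : Set G) ⊆ ((P : Subgroup G) : Set G) from
      fun x hx => hx.1)).trans hCM0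
  set H : Subgroup G := M0 ⊔ (P : Subgroup G) with hH
  have hM0H : M0 ≤ H := le_sup_left
  have hPH : (P : Subgroup G) ≤ H := le_sup_right
  have hNH : N ≤ H := hNM0.trans hM0H
  have hHinr : H ≤ Inr N (θ : N → ℂ) := le_inr_of_inv hM P N θ hθB hθd hinv
  have hNHn : (N.subgroupOf H).Normal := hNn.subgroupOf _
  have hM0Hn : (M0.subgroupOf H).Normal := hM0n.subgroupOf _
  obtain ⟨Qs, hQs⟩ := Transfer.FrobeniusFusion.exists_sylow_subgroupOf (P.subtype hPH) (N.subgroupOf H)
  have hQm : (Qs : Subgroup (N.subgroupOf H)).map (N.subgroupOf H).subtype =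
      ((P : Subgroup G) ⊓ N).subgroupOf H := by
    rw [hQs, Subgroup.subgroupOf_map_subtype]
    rfl
  have hcen : centralizer ((((P : Subgroup G) ⊓ N).subgroupOf H : Subgroup H) : Set H) =
      (centralizer (((P : Subgroup G) ⊓ N : Subgroup G) : Set G)).subgroupOf H := by
    ext x
    rw [Subgroup.mem_subgroupOf, Subgroup.mem_centralizer_iff, Subgroup.mem_centralizer_iff]
    constructor
    · intro hx y hy
      exact congrArg Subtype.val (hx ⟨y, hPH hy.1⟩ hy)
    · intro hx y hy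
      exact Subtype.ext (hx (y : G) hy)
  obtain ⟨χ0, hχ0B, hχ0r, hχ0⟩ := S4892.result (G := H) p hp2 M hM (N.subgroupOf H) (up N θ hNH)
    (by
      rintro g n n' hn
      rw [up_apply, up_apply]
      have h1 := hHinr g.2 ⟨((n : H) : G), n.2⟩
      rw [← h1]
      refine congrArg (θ : N → ℂ) (Subtype.ext ?_)
      show ((n' : H) : G) = g * ((n : H) : G) * (g : G)⁻¹
      rw [hn]
      rfl) (by rw [up_degree]; exact hθd) (by
      obtain ⟨m, hm, hr⟩ := hθr
      exact ⟨m, hm, fun n => hr _⟩) (mapIrr_mem _ hθB) Qs (by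
      obtain ⟨k, hk⟩ := relIndex_sup_pow M0 (P : Subgroup G) P.isPGroup'
      refine ⟨k, ?_⟩
      rw [hQm, hcen, ← Subgroup.subgroupOf_sup hNH (hCM0.trans hM0H)]
      exact hk)
  have hχ0' : ∀ n : N, (χ0 : H → ℂ) ⟨n, hNH n.2⟩ = (θ : N → ℂ) n := fun n => hχ0 ⟨⟨n, hNH n.2⟩, n.2⟩
  -- the restriction to `M0`
  have hψirr : IsIrrCharacter M0 ((χ0 : H → ℂ) ∘ Subgroup.inclusion hM0H) := by
    apply CharactersDeep.MaxInduced.isIrr_of_comp (Subgroup.inclusion hNM0)
      (Characters.Core.isCharacter_comp (Subgroup.inclusion hM0H) (irr_isCharacter χ0.2))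
    have h5 : ((χ0 : H → ℂ) ∘ Subgroup.inclusion hM0H) ∘ Subgroup.inclusion hNM0 = (θ : N → ℂ) := by
      funext n
      exact hχ0' n
    rw [h5]
    exact θ.2
  let ψ : IrrCharacter M0 := ⟨_, hψirr⟩
  have hψ : ∀ x : M0, (ψ : M0 → ℂ) x = (χ0 : H → ℂ) ⟨x, hM0H x.2⟩ := fun x => rfl
  have hψB : ψ ∈ principalBlock M M0 := by
    have := Fintype.ofFinite H
    have := Fintype.ofFinite (M0.subgroupOf H)
    obtain ⟨g, θ', hθ', hg⟩ := S0964.result p M hM (M0.subgroupOf H) (principalBlock M H) (isPBlock_principal M H)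
      (principalBlock M (M0.subgroupOf H)) (isPBlock_principal M _) (oneIrr H) one_mem_principal
      (oneIrr (M0.subgroupOf H)) one_mem_principal (by
        show classInner (fun _ : M0.subgroupOf H => (1 : ℂ)) (fun _ : M0.subgroupOf H => (1 : ℂ)) ≠ 0
        rw [classInner_def]
        simp only [_root_.Nat.card_eq_fintype_card, _root_.map_one, _root_.mul_one, _root_.Finset.sum_const, _root_.Finset.card_univ, _root_.nsmul_eq_mul, _root_.ne_eq, _root_.Nat.cast_eq_zero, _root_.Fintype.card_ne_zero, _root_.not_false_eq_true, _root_.inv_mul_cancel₀, _root_.one_ne_zero]) χ0 hχ0B (up M0 ψ hM0H) (by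
        have h6 : (fun n : M0.subgroupOf H => (χ0 : H → ℂ) n) = (up M0 ψ hM0H : M0.subgroupOf H → ℂ) := by
          funext n
          rw [up_apply, hψ]
        rw [h6, Characters.Core.classInner_irr (up M0 ψ hM0H).2 (up M0 ψ hM0H).2, if_pos rfl]
        exact one_ne_zero)
    have h7 : up M0 ψ hM0H = mapIrr (MulAut.conjNormal (H := M0.subgroupOf H) g) θ' := by
      apply Subtype.ext
      funext n
      rw [hg, mapIrr_apply]
      rfl
    have h8 : ψ = mapIrr (Subgroup.subgroupOfEquivOfLe hM0H).symm (up M0 ψ hM0H) := by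
      apply Subtype.ext
      funext n
      rw [mapIrr_apply, up_apply]
      rfl
    rw [h8, h7]
    exact mapIrr_mem _ (mapIrr_mem _ hθ')
  have hψ1 : (ψ : M0 → ℂ) 1 = (θ : N → ℂ) 1 := hχ0' 1
  obtain ⟨χ, hχd, hχr, hχo⟩ := hL P M0 (sn_of_XX hM hN P h M0 hCP) ψ (by
      rw [charDegree_def, hψ1, ← charDegree_def]; exact hθd) (pRat_comp (Subgroup.inclusion hM0H) hχ0r) (by
      intro g hg x
      rw [hψ, hψ]
      exact irr_conj χ0.2 ⟨x, hM0H x.2⟩ ⟨g, hPH hg⟩)
  have hχ1 := h χ (mem_of_over hM P M0 hCP ψ hψB χ hχo hχd) hχd hχr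
  have := Fintype.ofFinite M0
  rw [ov_iff, hχ1] at hχo
  have h9 : (fun _ : M0 => (1 : ℂ)) = (ψ : M0 → ℂ) := by
    by_contra hne
    apply hχo
    rw [Characters.Core.classInner_irr isIrrCharacter_one ψ.2, if_neg hne]
  apply hθ1
  funext n
  rw [← hχ0' n]
  exact (congrFun h9 ⟨n, hNM0 n.2⟩).symm

/-- the main induction -/
theorem comm_of_XX (hp2 : p ≠ 2) (hL : LemL.{u} p) (hN : ThmN.{u} p) (hE : ExTh.{u} p) (hM : IsPModular p M) (n : ℕ) :
    ∀ {G : Type u} [Group G] [Finite G], Nat.card G = n → ∀ P : Sylow p G, XX p M G → ∀ g : G, ¬ p ∣ orderOf g →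
      (∀ x ∈ (P : Subgroup G), g * x * g⁻¹ ∈ (P : Subgroup G)) → ∀ x ∈ (P : Subgroup G), g * x = x * g := by
  induction n using Nat.strong_induction_on with
  | _ n ih =>
  intro G _ _ hn P h g hr hgP
  -- quotients
  have hquot : ∀ K : Subgroup G, K.Normal → K ≠ ⊥ → ∀ x ∈ (P : Subgroup G), g * x * g⁻¹ * x⁻¹ ∈ K := by
    intro K hK hK1
    apply comm_quot hM P h K _ hr hgP
    intro P' h'
    refine ih (Nat.card (G ⧸ K)) ?_ rfl P' h'
    rw [← hn]
    have h1 := K.card_eq_card_quotient_mul_card_subgroup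
    have h2 : 1 < Nat.card K := (Subgroup.one_lt_card_iff_ne_bot K).2 hK1
    rw [h1]
    exact lt_mul_of_one_lt_right Nat.card_pos h2
  by_cases hG : Nontrivial G
  swap
  · intro x _
    rw [not_nontrivial_iff_subsingleton] at hG
    exact Subsingleton.elim _ _
  obtain ⟨N, hNn, hN1, hmin⟩ := Lib.SubnormalJoin.exists_minimal_normal G
  have hmem : ∀ x ∈ (P : Subgroup G), g * x * g⁻¹ * x⁻¹ ∈ (P : Subgroup G) ⊓ N := fun x hx =>
    ⟨(P : Subgroup G).mul_mem (hgP x hx) ((P : Subgroup G).inv_mem hx), hquot N hNn hN1 x hx⟩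
  have hQp : IsPGroup p ↥((P : Subgroup G) ⊓ N) := P.isPGroup'.to_le inf_le_left
  -- it is enough to centralize `P ∩ N`
  suffices hs : g ∈ centralizer (((P : Subgroup G) ⊓ N : Subgroup G) : Set G) by
    apply comm_of_cent hQp _ hmem hr
    intro x hx
    exact (Subgroup.mem_centralizer_iff.1 hs x hx).symm
  by_cases hpN : p ∣ Nat.card N
  swap
  · -- `N` is a `p'`-group
    have h1 : (P : Subgroup G) ⊓ N = ⊥ := by
      apply Subgroup.eq_bot_of_card_eq
      obtain ⟨k, hk⟩ := IsPGroup.iff_card.1 hQp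
      have h2 : Nat.card ↥((P : Subgroup G) ⊓ N) ∣ Nat.card N := Subgroup.card_dvd_of_le inf_le_right
      rcases Nat.eq_zero_or_pos k with hk0 | hk0
      · rw [hk, hk0, pow_zero]
      · exfalso
        apply hpN
        rw [hk] at h2
        exact (dvd_pow_self p hk0.ne').trans h2
    rw [h1, Subgroup.mem_centralizer_iff]
    intro y hy
    rw [Subgroup.coe_bot, Set.mem_singleton_iff] at hy
    rw [hy, one_mul, mul_one]
  have hM0n := normal_sup_centralizer P N
  have hCP : centralizer ((P : Subgroup G) : Set G) ≤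
      N ⊔ centralizer (((P : Subgroup G) ⊓ N : Subgroup G) : Set G) :=
    (centralizer_le (show (((P : Subgroup G) ⊓ N : Subgroup G) : Set G) ⊆ ((P : Subgroup G) : Set G) from
      fun x hx => hx.1)).trans le_sup_right
  have hgM0 : g ∈ N ⊔ centralizer (((P : Subgroup G) ⊓ N : Subgroup G) : Set G) :=
    mem_of_sn P.isPGroup' (sn_of_XX hM hN P h _ hCP) hgP hr
  by_cases hab : ∀ x ∈ N, ∀ y ∈ N, Commute x y
  · -- `N` abelian: an elementary abelian `p`-group
    have hNP : (P : Subgroup G) ⊓ N = N := by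
      rw [inf_eq_right]
      let T : Subgroup G :=
        { carrier := {x | x ∈ N ∧ x ^ p = 1}
          one_mem' := ⟨N.one_mem, one_pow p⟩
          mul_mem' := by
            rintro a b ⟨ha, ha'⟩ ⟨hb, hb'⟩
            exact ⟨N.mul_mem ha hb, by rw [(hab a ha b hb).mul_pow, ha', hb', one_mul]⟩
          inv_mem' := by
            rintro a ⟨ha, ha'⟩
            exact ⟨N.inv_mem ha, by rw [inv_pow, ha', inv_one]⟩ }
      have hT : ∀ x, x ∈ T ↔ x ∈ N ∧ x ^ p = 1 := fun x => Iff.rfl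
      have hTn : T.Normal := by
        constructor
        rintro x ⟨hx, hx'⟩ y
        refine ⟨hNn.conj_mem x hx y, ?_⟩
        have h1 : (y * x * y⁻¹) ^ p = y * x ^ p * y⁻¹ := conj_pow
        rw [h1, hx', mul_one, mul_inv_cancel]
      rcases hmin T hTn (fun x hx => hx.1) with h1 | h1
      · exfalso
        obtain ⟨x, hx⟩ := exists_prime_orderOf_dvd_card' p hpN
        have h2 : (x : G) ∈ T := (hT _).2 ⟨x.2, by
          have h3 := pow_orderOf_eq_one x
          rw [hx] at h3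
          exact congrArg Subtype.val h3⟩
        rw [h1, Subgroup.mem_bot] at h2
        have h3 : x = 1 := Subtype.ext h2
        rw [h3, orderOf_one] at hx
        exact hp.out.one_lt.ne hx
      · have hNp : IsPGroup p N := by
          rintro ⟨x, hx⟩
          refine ⟨1, Subtype.ext ?_⟩
          rw [← h1] at hx
          show x ^ p ^ 1 = 1
          rw [pow_one]
          exact hx.2
        have h2 : IsPGroup p ((P : Subgroup G) ⊔ N : Subgroup G) :=
          IsPGroup.to_sup_of_normal_right P.isPGroup' hNp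
        exact le_sup_right.trans (le_of_eq (P.is_maximal' h2 le_sup_left))
    rw [hNP] at hgM0 ⊢
    have h1 : N ⊔ centralizer (N : Set G) = centralizer (N : Set G) := by
      rw [sup_eq_right]
      intro x hx
      rw [Subgroup.mem_centralizer_iff]
      intro y hy
      exact hab y hy x hx
    rwa [h1] at hgM0
  · rcases hE hM P N hmin hab hpN with ⟨θ, hθ, hinv⟩ | hex
    · exact (no_witness hp2 hL hN hM P h N θ hθ hinv).elim
    · exact cent_of_exc P N _ rfl hex hgM0 hr hgP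

/-- **(R5)** the direction `⇐` of S4891 -/
theorem main (hp2 : p ≠ 2) (hL : LemL.{u} p) (hN : ThmN.{u} p) (hE : ExTh.{u} p) (hM : IsPModular p M)
    {G : Type u} [Group G] [Finite G] (P : Sylow p G)
    (h : ∀ χ : IrrCharacter G, χ ∈ principalBlock M G → ¬ p ∣ charDegree (χ : G → ℂ) → PRat p (χ : G → ℂ) →
      (χ : G → ℂ) = fun _ => (1 : ℂ)) :
    HasNormalPComplement p ↥(normalizer ((P : Subgroup G) : Set G)) :=
  hasCompl P fun g hr hgP => comm_of_XX hp2 hL hN hE hM (Nat.card G) rfl P h g hr hgP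

end Cfsg.Agent.H627.BR
end

-- part: H627/BR/EasyCore
section
set_option linter.all false
open scoped Cfsg.Agent.FastGrp

/-!
# S4891, step (R6): the direction `⇒`, from the conclusion of S4951
-/

set_option autoImplicit false

open Subgroup
open scoped Pointwise

namespace Cfsg.Agent.H627.BR

open Cfsg Cfsg.Agent.H145.BR Cfsg.Agent.Blocks.Local Cfsg.Agent.Blocks.Basic Cfsg.Agent.H700.PrinCrit
  Cfsg.Agent.H700.PrinExt Cfsg.Agent.H700.PRatExt Cfsg.Agent.H700.PRat

universe u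

variable {p : ℕ} [hp : Fact p.Prime] {M : Ideal AlgInt}

/-- the normal complement of `N_G(P)` -/
theorem exists_compl {G : Type u} [Group G] [Finite G] (P : Sylow p G)
    (hN : HasNormalPComplement p ↥(normalizer ((P : Subgroup G) : Set G))) :
    ∃ K : Subgroup ↥(normalizer ((P : Subgroup G) : Set G)), K.Normal ∧ ¬ p ∣ Nat.card K ∧
      (∀ k ∈ K, ∀ x ∈ (P : Subgroup G), (k : G) * x = x * k) ∧
      ∀ g : ↥(normalizer ((P : Subgroup G) : Set G)), ∃ k ∈ K, ∃ x : G, ∃ hx : x ∈ (P : Subgroup G),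
        g = k * ⟨x, le_normalizer hx⟩ := by
  obtain ⟨K, hK, hc⟩ := (Transfer.NormalPComplement.hasNormalPComplement_iff_sylow
    (P.subtype (le_normalizer : (P : Subgroup G) ≤ normalizer ((P : Subgroup G) : Set G)))).1 hN
  have hKp : ¬ p ∣ Nat.card K := by
    rw [← hc.index_eq_card]
    exact (P.subtype (le_normalizer : (P : Subgroup G) ≤ normalizer ((P : Subgroup G) : Set G))).not_dvd_index
  refine ⟨K, hK, hKp, ?_, ?_⟩
  · intro k hk x hx
    let x' : ↥(normalizer ((P : Subgroup G) : Set G)) := ⟨x, le_normalizer hx⟩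
    have h1 : k * x' * k⁻¹ * x'⁻¹ ∈ K := by
      have h2 : k * x' * k⁻¹ * x'⁻¹ = k * (x' * k⁻¹ * x'⁻¹) := by group
      rw [h2]
      exact K.mul_mem hk (hK.conj_mem _ (K.inv_mem hk) x')
    have h2 : k * x' * k⁻¹ * x'⁻¹ ∈
        ((P.subtype (le_normalizer : (P : Subgroup G) ≤ normalizer ((P : Subgroup G) : Set G)) :
          Sylow p ↥(normalizer ((P : Subgroup G) : Set G))) : Subgroup ↥(normalizer ((P : Subgroup G) : Set G))) := by
      show (k : G) * x * (k : G)⁻¹ * x⁻¹ ∈ (P : Subgroup G)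
      exact (P : Subgroup G).mul_mem ((Subgroup.mem_normalizer_iff.1 k.2 x).1 hx) ((P : Subgroup G).inv_mem hx)
    have h3 : k * x' * k⁻¹ * x'⁻¹ = 1 := by
      have h4 := hc.disjoint
      rw [Subgroup.disjoint_def] at h4
      exact h4 h1 h2
    have h4 : (k : G) * x * (k : G)⁻¹ * x⁻¹ = 1 := congrArg Subtype.val h3
    have h5 : (k : G) * x * (k : G)⁻¹ = x := by
      rw [mul_inv_eq_one] at h4
      exact h4
    exact mul_inv_eq_iff_eq_mul.1 h5
  · intro g
    obtain ⟨⟨a, b⟩, hab⟩ := hc.existsUnique g |>.exists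
    exact ⟨a, a.2, (b : ↥(normalizer ((P : Subgroup G) : Set G))), b.2, hab.symm⟩

/-- `N_G(P) = P C_G(P)` -/
theorem dec_of_compl {G : Type u} [Group G] [Finite G] (P : Sylow p G)
    (hN : HasNormalPComplement p ↥(normalizer ((P : Subgroup G) : Set G))) :
    normalizer ((P : Subgroup G) : Set G) = (P : Subgroup G) ⊔ centralizer ((P : Subgroup G) : Set G) := by
  apply le_antisymm
  · intro g hg
    obtain ⟨K, hK, hKp, hKc, hKd⟩ := exists_compl P hN
    obtain ⟨k, hk, x, hx, hgx⟩ := hKd ⟨g, hg⟩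
    have h1 : g = (k : G) * x := congrArg Subtype.val hgx
    rw [h1]
    refine mul_mem ((le_sup_right : centralizer ((P : Subgroup G) : Set G) ≤ _) ?_)
      ((le_sup_left : (P : Subgroup G) ≤ _) hx)
    rw [Subgroup.mem_centralizer_iff]
    intro y hy
    exact (hKc k hk y hy).symm
  · exact sup_le le_normalizer (centralizer_le_normalizer _)

/-- **(R6)** the direction `⇒` of S4891 from the conclusion of S4951 -/
theorem easy_core (hp2 : p ≠ 2) (hM : IsPModular p M) {G : Type u} [Group G] [Fintype G]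
    (P : Sylow p G) [Fintype ↥(normalizer ((P : Subgroup G) : Set G))]
    (hN : HasNormalPComplement p ↥(normalizer ((P : Subgroup G) : Set G)))
    (hA : ∀ χ : IrrCharacter G, χ ∈ principalBlock M G → ¬ p ∣ charDegree (χ : G → ℂ) →
      (∃! μ : IrrCharacter ↥(normalizer ((P : Subgroup G) : Set G)),
        charDegree (μ : ↥(normalizer ((P : Subgroup G) : Set G)) → ℂ) = 1 ∧
          classInner (fun x : ↥(normalizer ((P : Subgroup G) : Set G)) => (χ : G → ℂ) x)
            (μ : ↥(normalizer ((P : Subgroup G) : Set G)) → ℂ) ≠ 0) ∧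
      (∀ μ : IrrCharacter ↥(normalizer ((P : Subgroup G) : Set G)),
        classInner (fun x : ↥(normalizer ((P : Subgroup G) : Set G)) => (χ : G → ℂ) x)
            (μ : ↥(normalizer ((P : Subgroup G) : Set G)) → ℂ) ≠ 0 →
          (charDegree (μ : ↥(normalizer ((P : Subgroup G) : Set G)) → ℂ) = 1 ∧
            μ ∈ principalBlock M ↥(normalizer ((P : Subgroup G) : Set G)) ∧
            classInner (fun x : ↥(normalizer ((P : Subgroup G) : Set G)) => (χ : G → ℂ) x)
              (μ : ↥(normalizer ((P : Subgroup G) : Set G)) → ℂ) = 1) ∨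
          p ∣ charDegree (μ : ↥(normalizer ((P : Subgroup G) : Set G)) → ℂ)))
    (hB : ∀ μ : IrrCharacter ↥(normalizer ((P : Subgroup G) : Set G)),
      μ ∈ principalBlock M ↥(normalizer ((P : Subgroup G) : Set G)) →
      charDegree (μ : ↥(normalizer ((P : Subgroup G) : Set G)) → ℂ) = 1 →
        ∃! χ : IrrCharacter G, χ ∈ principalBlock M G ∧ ¬ p ∣ charDegree (χ : G → ℂ) ∧
          classInner (fun x : ↥(normalizer ((P : Subgroup G) : Set G)) => (χ : G → ℂ) x)
            (μ : ↥(normalizer ((P : Subgroup G) : Set G)) → ℂ) ≠ 0)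
    (χ : IrrCharacter G) (h1 : χ ∈ principalBlock M G) (h2 : ¬ p ∣ charDegree (χ : G → ℂ))
    (h3 : PRat p (χ : G → ℂ)) : (χ : G → ℂ) = fun _ => (1 : ℂ) := by
  classical
  have hMp : M.IsPrime := isPrime_of_isPModular hM
  obtain ⟨K, hK, hKp, hKc, hKd⟩ := exists_compl P hN
  obtain ⟨⟨μ, ⟨hμ1, hμ2⟩, hμu⟩, hall⟩ := hA χ h1 h2
  have hμB : μ ∈ principalBlock M ↥(normalizer ((P : Subgroup G) : Set G)) := by
    rcases hall μ hμ2 with h | h
    · exact h.2.1
    · rw [hμ1] at h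
      exact absurd (Nat.dvd_one.1 h) hp.out.one_lt.ne'
  have hμ11 : (μ : ↥(normalizer ((P : Subgroup G) : Set G)) → ℂ) 1 = 1 := by
    rw [irr_one_eq_charDegree μ.2, hμ1, Nat.cast_one]
  obtain ⟨l, hl⟩ := Characters.Linear.exists_hom_of_isIrrCharacter μ.2 hμ11
  obtain ⟨n, hn, hrat⟩ := h3
  -- `μ` is fixed by the automorphisms which fix `ζ_n`
  have hfix : ∀ σ : ℂ ≃+* ℂ, σ (zet n) = zet n → ∀ x, σ ((μ : ↥(normalizer ((P : Subgroup G) : Set G)) → ℂ) x) =
      (μ : ↥(normalizer ((P : Subgroup G) : Set G)) → ℂ) x := by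
    intro σ hσ
    have hirr := Characters.GaloisIrr.isIrr_map σ μ.2
    have h4 : (⟨_, hirr⟩ : IrrCharacter ↥(normalizer ((P : Subgroup G) : Set G))) = μ := by
      apply hμu
      constructor
      · apply charDegree_of_eq
        show σ ((μ : ↥(normalizer ((P : Subgroup G) : Set G)) → ℂ) 1) = ((1 : ℕ) : ℂ)
        rw [hμ11, map_one, Nat.cast_one]
      · have h5 := Characters.GaloisIrr.classInner_map σ
          (χ := fun x : ↥(normalizer ((P : Subgroup G) : Set G)) => (χ : G → ℂ) x) (irr_isCharacter μ.2)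
        have h6 : (fun g : ↥(normalizer ((P : Subgroup G) : Set G)) => σ ((χ : G → ℂ) g)) =
            fun g : ↥(normalizer ((P : Subgroup G) : Set G)) => (χ : G → ℂ) g :=
          funext fun g => fix_adjoin σ hσ (hrat g)
        rw [h6] at h5
        show classInner (fun x : ↥(normalizer ((P : Subgroup G) : Set G)) => (χ : G → ℂ) x)
          (fun g => σ ((μ : ↥(normalizer ((P : Subgroup G) : Set G)) → ℂ) g)) ≠ 0
        rw [h5]
        exact (map_ne_zero_iff σ σ.injective).2 hμ2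
    intro x
    exact congrFun (congrArg Subtype.val h4) x
  -- `μ` is trivial on `P`
  have hP1 : ∀ x (hx : x ∈ (P : Subgroup G)),
      (μ : ↥(normalizer ((P : Subgroup G) : Set G)) → ℂ) ⟨x, le_normalizer hx⟩ = 1 := by
    intro x hx
    obtain ⟨k, hk⟩ := P.isPGroup' ⟨x, hx⟩
    have hk' : x ^ p ^ k = 1 := congrArg Subtype.val hk
    have h4 : (μ : ↥(normalizer ((P : Subgroup G) : Set G)) → ℂ) ⟨x, le_normalizer hx⟩ ^ p ^ k = 1 := by
      rw [hl]
      show ((l ⟨x, le_normalizer hx⟩ : ℂˣ) : ℂ) ^ p ^ k = 1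
      rw [← Units.val_pow_eq_pow_val, ← map_pow]
      have h5 : (⟨x, le_normalizer hx⟩ : ↥(normalizer ((P : Subgroup G) : Set G))) ^ p ^ k = 1 := Subtype.ext hk'
      rw [h5, map_one, Units.val_one]
    have h5 := pow_ordCompl_eq_one hp.out hp2 hn (pow_ne_zero k hp.out.ne_zero) h4 (fun σ hσ => hfix σ hσ _)
    rwa [hp.out.factorization_pow, Finsupp.single_eq_same, Nat.div_self (pow_pos hp.out.pos k), pow_one] at h5
  -- and on `K`
  have hμ : μ = oneIrr ↥(normalizer ((P : Subgroup G) : Set G)) := by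
    apply Subtype.ext
    funext g
    obtain ⟨k, hk, x, hx, rfl⟩ := hKd g
    have h4 := Blocks.PrincipalKernel.principalBlock_apply_eq hM hKp hμB hk
    have h5 : (μ : ↥(normalizer ((P : Subgroup G) : Set G)) → ℂ) (k * ⟨x, le_normalizer hx⟩) =
        (μ : ↥(normalizer ((P : Subgroup G) : Set G)) → ℂ) k *
          (μ : ↥(normalizer ((P : Subgroup G) : Set G)) → ℂ) ⟨x, le_normalizer hx⟩ := by
      rw [hl]
      show ((l (k * ⟨x, le_normalizer hx⟩) : ℂˣ) : ℂ) = (l k : ℂ) * (l ⟨x, le_normalizer hx⟩ : ℂ)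
      rw [map_mul, Units.val_mul]
    rw [h5, h4, hμ11, hP1 x hx, one_mul]
    rfl
  obtain ⟨χ', -, hu⟩ := hB μ hμB hμ1
  have e1 := hu χ ⟨h1, h2, hμ2⟩
  have e2 := hu (oneIrr G) ⟨one_mem_principal, by
    have h4 : charDegree ((oneIrr G : IrrCharacter G) : G → ℂ) = 1 := charDegree_of_eq (by simp [oneIrr])
    rw [h4]
    exact fun h => hp.out.one_lt.ne' (Nat.dvd_one.1 h), by
    rw [hμ]
    show classInner (fun _ : ↥(normalizer ((P : Subgroup G) : Set G)) => (1 : ℂ))
      (fun _ : ↥(normalizer ((P : Subgroup G) : Set G)) => (1 : ℂ)) ≠ 0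
    rw [classInner_def]
    simp⟩
  rw [e1, ← e2]
  rfl

end Cfsg.Agent.H627.BR
end
end
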